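import Mathlib.Algebra.Homology.QuasiIso
import Mathlib.CategoryTheory.Functor.OfSequence
import Mathlib.Algebra.Homology.HomologicalComplexAbelian

/-!
# Degreewise eventually constant sequences of complexes
-/

set_option autoImplicit false

universe v u

open CategoryTheory CategoryTheory.Limits

noncomputable section

namespace Groth.DimZero

variable {A : Type u} [Category.{v} A] [Abelian A]

/-- A sequence of quasi-isomorphisms which is eventually constant in each degree has a limit
receiving quasi-isomorphisms from all stages. -/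
theorem exists_stable_limit (M : ℕ → CochainComplex A ℤ) (g : ∀ k, M k ⟶ M (k + 1))
    (hg : ∀ k, QuasiIso (g k)) (S : ℕ → ℤ → Prop) (hS : ∀ k t, S k t → S (k + 1) t)
    (hiso : ∀ k t, S k t → IsIso ((g k).f t)) (hcov : ∀ t, ∃ k, S k t) :
    ∃ (L : CochainComplex A ℤ) (f : M 0 ⟶ L), QuasiIso f ∧
      (∀ t, S 0 t → IsIso (f.f t)) ∧ ∀ k t, S k t → Nonempty ((M k).X t ≅ L.X t) := by
  let F := Functor.ofSequence g
  let G : ∀ k k' : ℕ, k ≤ k' → (M k ⟶ M k') := fun k k' h => F.map (homOfLE h)
  have Gcomp : ∀ (a b c : ℕ) (h : a ≤ b) (h' : b ≤ c), G a b h ≫ G b c h' = G a c (h.trans h') :=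
    fun a b c h h' => (F.map_comp (homOfLE h) (homOfLE h')).symm
  have Gsucc : ∀ k, G k (k + 1) (Nat.le_succ k) = g k := fun k => Functor.ofSequence_map_homOfLE_succ g k
  have Gid : ∀ k, G k k le_rfl = 𝟙 _ := fun k => F.map_id k
  have hSm : ∀ (k k' : ℕ) (t : ℤ), k ≤ k' → S k t → S k' t := by
    intro k k' t h hs
    induction k', h using Nat.le_induction with
    | base => exact hs
    | succ n _ ih => exact hS n t ih
  have Giso : ∀ (k k' : ℕ) (h : k ≤ k') (t : ℤ), S k t → IsIso ((G k k' h).f t) := by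
    intro k k' h t hs
    induction k', h using Nat.le_induction with
    | base => rw [Gid]; exact inferInstanceAs (IsIso (𝟙 _))
    | succ n hn ih =>
      rw [← Gcomp k n (n + 1) hn (Nat.le_succ n), HomologicalComplex.comp_f, Gsucc]
      have := hiso n t (hSm k n t hn hs)
      infer_instance
  have GQ : ∀ k, QuasiIso (G 0 k (Nat.zero_le k)) := by
    intro k
    induction k with
    | zero => rw [Gid]; infer_instance
    | succ n ih =>
      rw [← Gcomp 0 n (n + 1) (Nat.zero_le n) (Nat.le_succ n), Gsucc]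
      have := hg n
      infer_instance
  choose R hR using hcov
  let X : ℤ → A := fun t => (M (R t)).X t
  let i : ∀ (t : ℤ) (k : ℕ) (_ : R t ≤ k), X t ≅ (M k).X t := fun t k h =>
    @asIso _ _ _ _ ((G (R t) k h).f t) (Giso _ _ h t (hR t))
  have hi : ∀ (t : ℤ) (k k' : ℕ) (h : R t ≤ k) (h' : k ≤ k'),
      (i t k h).hom ≫ (G k k' h').f t = (i t k' (h.trans h')).hom := fun t k k' h h' =>
    (HomologicalComplex.comp_f _ _ t).symm.trans
      (HomologicalComplex.congr_hom (Gcomp _ _ _ h h') t)
  let D : ∀ (t : ℤ) (k : ℕ) (_ : R t ≤ k) (_ : R (t + 1) ≤ k), X t ⟶ X (t + 1) :=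
    fun t k h h' => (i t k h).hom ≫ (M k).d t (t + 1) ≫ (i (t + 1) k h').inv
  have hD : ∀ (t : ℤ) (k k' : ℕ) (h : R t ≤ k) (h' : R (t + 1) ≤ k) (hk : k ≤ k'),
      D t k h h' = D t k' (h.trans hk) (h'.trans hk) := by
    intro t k k' h h' hk
    simp only [D]
    rw [← hi t k k' h hk, Category.assoc, HomologicalComplex.Hom.comm_assoc]
    congr 2
    rw [← cancel_epi (i (t + 1) k h').hom, Iso.hom_inv_id, ← Category.assoc, hi (t + 1) k k' h' hk,
      Iso.hom_inv_id]
  have hD' : ∀ (t : ℤ) (k k' : ℕ) (h : R t ≤ k) (h' : R (t + 1) ≤ k) (j : R t ≤ k')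
      (j' : R (t + 1) ≤ k'), D t k h h' = D t k' j j' := fun t k k' h h' j j' =>
    (hD t k (max k k') h h' (le_max_left _ _)).trans (hD t k' (max k k') j j' (le_max_right _ _)).symm
  let d : ∀ t, X t ⟶ X (t + 1) := fun t => D t _ (le_max_left _ _) (le_max_right _ _)
  have hd : ∀ t (k : ℕ) (h : R t ≤ k) (h' : R (t + 1) ≤ k), d t = D t k h h' :=
    fun t k h h' => hD' t _ k _ _ h h'
  let L : CochainComplex A ℤ := CochainComplex.of X d fun t => by
    rw [hd t (max (max (R t) (R (t + 1))) (R (t + 1 + 1)))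
      (le_trans (le_max_left _ _) (le_max_left _ _)) (le_trans (le_max_right _ _) (le_max_left _ _)),
      hd (t + 1) (max (max (R t) (R (t + 1))) (R (t + 1 + 1)))
      (le_trans (le_max_right _ _) (le_max_left _ _)) (le_max_right _ _)]
    simp [D]
  let P : ∀ (k : ℕ) (t : ℤ), (M k).X t ⟶ X t := fun k t =>
    (G k (max k (R t)) (le_max_left _ _)).f t ≫ (i t (max k (R t)) (le_max_right _ _)).inv
  have hP : ∀ (k : ℕ) (t : ℤ) (m : ℕ) (h : k ≤ m) (h' : R t ≤ m),
      P k t = (G k m h).f t ≫ (i t m h').inv := by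
    intro k t m h h'
    have hm : max k (R t) ≤ m := max_le h h'
    simp only [P]
    rw [← Gcomp k (max k (R t)) m (le_max_left _ _) hm, HomologicalComplex.comp_f, Category.assoc]
    congr 1
    rw [← cancel_epi (i t (max k (R t)) (le_max_right _ _)).hom, Iso.hom_inv_id, ← Category.assoc,
      hi t (max k (R t)) m (le_max_right _ _) hm, Iso.hom_inv_id]
  let ψ : ∀ k, M k ⟶ L := fun k =>
    { f := P k
      comm' := fun s t hst => by
        obtain rfl : s + 1 = t := hst
        change P k s ≫ CochainComplex.of.d X d s (s + 1) = (M k).d s (s + 1) ≫ P k (s + 1)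
        rw [CochainComplex.of_d, hd s (max k (max (R s) (R (s + 1))))
            (le_trans (le_max_left _ _) (le_max_right _ _)) (le_trans (le_max_right _ _) (le_max_right _ _)),
          hP k s (max k (max (R s) (R (s + 1)))) (le_max_left _ _)
            (le_trans (le_max_left _ _) (le_max_right _ _)),
          hP k (s + 1) (max k (max (R s) (R (s + 1)))) (le_max_left _ _)
            (le_trans (le_max_right _ _) (le_max_right _ _))]
        simp [D] }
  have hψ : ∀ (k : ℕ) (t : ℤ), S k t → IsIso ((ψ k).f t) := by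
    intro k t hs
    have := Giso k (max k (R t)) (le_max_left _ _) t hs
    change IsIso (P k t)
    simp only [P]
    infer_instance
  refine ⟨L, ψ 0, ⟨fun t => ?_⟩, hψ 0, fun k t hs => ⟨@asIso _ _ _ _ _ (hψ k t hs)⟩⟩
  let K : ℕ := max (max (R (t - 1)) (R t)) (R (t + 1))
  have hK : ψ 0 = G 0 K (Nat.zero_le K) ≫ ψ K := by
    ext s
    change P 0 s = (G 0 K (Nat.zero_le K)).f s ≫ P K s
    rw [hP 0 s (max K (R s)) (Nat.zero_le _) (le_max_right _ _),
      hP K s (max K (R s)) (le_max_left _ _) (le_max_right _ _), ← Category.assoc,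
      ← HomologicalComplex.comp_f, Gcomp]
  have i₁ := hψ K (t - 1) (hSm _ K _ (le_trans (le_max_left _ _) (le_max_left _ _)) (hR (t - 1)))
  have i₂ := hψ K t (hSm _ K _ (le_trans (le_max_right _ _) (le_max_left _ _)) (hR t))
  have i₃ := hψ K (t + 1) (hSm _ K _ (le_max_right _ _) (hR (t + 1)))
  have : QuasiIsoAt (ψ K) t := by
    rw [quasiIsoAt_iff' _ (t - 1) t (t + 1) (by simp) (by simp)]
    have : IsIso ((HomologicalComplex.shortComplexFunctor' A (ComplexShape.up ℤ) (t - 1) t (t + 1)).map
        (ψ K)) :=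
      @ShortComplex.isIso_of_isIso _ _ _ _ _ _ i₁ i₂ i₃
    infer_instance
  have := GQ K
  rw [hK]
  infer_instance

end Groth.DimZero
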