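import Groth.Agent.DimZero.Limit
import Mathlib.Algebra.Homology.Double
import Mathlib.Algebra.Homology.Additive
import Mathlib.Algebra.Homology.HomologySequence
import Mathlib.Data.ENat.Basic

/-!
# Lowering a dimension function along a complex
-/

set_option autoImplicit false

universe v u

open CategoryTheory CategoryTheory.Limits

noncomputable section

namespace Groth.DimZero

variable {A : Type u} [Category.{v} A] [Abelian A]

lemma rel_succ (n : ℤ) : (ComplexShape.up ℤ).Rel n (n + 1) := by simp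

lemma exactAt_double_id (X : A) (n k : ℤ) :
    (HomologicalComplex.double (𝟙 X) (rel_succ n)).ExactAt k := by
  let D := HomologicalComplex.double (𝟙 X) (rel_succ n)
  have hd : IsIso (D.d n (n + 1)) := by
    rw [HomologicalComplex.double_d _ _ (by omega)]
    infer_instance
  by_cases h₀ : k = n
  · subst h₀
    rw [HomologicalComplex.exactAt_iff' _ (k - 1) k (k + 1) (by simp) (by simp),
      ShortComplex.exact_iff_mono _ (HomologicalComplex.double_d_eq_zero₀ (𝟙 X) (rel_succ k) _ _ (by omega))]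
    exact @IsIso.mono_of_iso _ _ _ _ _ hd
  by_cases h₁ : k = n + 1
  · subst h₁
    rw [HomologicalComplex.exactAt_iff' _ n (n + 1) (n + 1 + 1) (by simp) (by simp),
      ShortComplex.exact_iff_epi _ (HomologicalComplex.double_d_eq_zero₁ (𝟙 X) (rel_succ n) _ _ (by omega))]
    exact @IsIso.epi_of_iso _ _ _ _ _ hd
  rw [HomologicalComplex.exactAt_iff' _ (k - 1) k (k + 1) (by simp) (by simp)]
  exact ShortComplex.exact_of_isZero_X₂ _
    (HomologicalComplex.isZero_double_X (𝟙 X) (rel_succ n) k h₀ h₁)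

variable (d : A → ℕ∞) (hiso : ∀ ⦃X Y : A⦄, Nonempty (X ≅ Y) → d X = d Y)
  (h1 : ∀ X : A, ∃ (Y : A) (ι : X ⟶ Y), Mono ι ∧ d Y = 0)
  (h2 : ∀ X Y : A, d (X ⊞ Y) ≤ max (d X) (d Y))
  (h3 : ∀ S : ShortComplex A, S.ShortExact → d S.X₃ ≤ max (d S.X₁ - 1) (d S.X₂))

include hiso h1 h2 h3 in
/-- One operation: kill the dimension in degree `n`, at the expense of the next degree. -/
theorem exists_step (M : CochainComplex A ℤ) (n : ℤ) :
    ∃ (M' : CochainComplex A ℤ) (g : M ⟶ M'), QuasiIso g ∧
      (∀ k, k ≠ n → k ≠ n + 1 → IsIso (g.f k)) ∧ d (M'.X n) = 0 ∧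
      d (M'.X (n + 1)) ≤ max (d (M.X n) - 1) (d (M.X (n + 1))) := by
  obtain ⟨Y, ι, hι, hY⟩ := h1 (M.X n)
  have hne : n ≠ n + 1 := by omega
  let DX := HomologicalComplex.double (𝟙 (M.X n)) (rel_succ n)
  let DY := HomologicalComplex.double (𝟙 Y) (rel_succ n)
  let eX₀ : DX.X n ≅ M.X n := HomologicalComplex.doubleXIso₀ _ _
  let eX₁ : DX.X (n + 1) ≅ M.X n := HomologicalComplex.doubleXIso₁ _ _ hne
  let eY₀ : DY.X n ≅ Y := HomologicalComplex.doubleXIso₀ _ _
  let eY₁ : DY.X (n + 1) ≅ Y := HomologicalComplex.doubleXIso₁ _ _ hne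
  let j : DX ⟶ DY :=
    HomologicalComplex.mkHomFromDouble (rel_succ n) hne (ι ≫ eY₀.inv) (ι ≫ eY₁.inv)
      (by
        rw [Category.assoc, show DY.d n (n + 1) = eY₀.hom ≫ 𝟙 Y ≫ eY₁.inv from
          HomologicalComplex.double_d _ _ hne]
        simp)
      (fun k hk => by
        rw [show DY.d (n + 1) k = 0 from HomologicalComplex.double_d_eq_zero₀ _ _ _ _ (by omega),
          comp_zero])
  let e : DX ⟶ M :=
    HomologicalComplex.mkHomFromDouble (rel_succ n) hne (𝟙 (M.X n)) (M.d n (n + 1)) (by simp)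
      (fun k hk => M.d_comp_d _ _ _)
  have hj : Mono j := HomologicalComplex.mono_of_mono_f j fun k => by
    by_cases h₀ : k = n
    · subst h₀
      rw [HomologicalComplex.mkHomFromDouble_f₀]
      infer_instance
    by_cases h₁ : k = n + 1
    · subst h₁
      rw [HomologicalComplex.mkHomFromDouble_f₁]
      infer_instance
    exact (HomologicalComplex.isZero_double_X _ (rel_succ n) k h₀ h₁).mono _
  let l : DX ⟶ DY ⊞ M := biprod.lift j (-e)
  have hl : Mono l := mono_of_mono_fac (biprod.lift_fst j (-e))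
  let S : ShortComplex (CochainComplex A ℤ) := ShortComplex.mk l (cokernel.π l) (cokernel.condition l)
  have hS : S.ShortExact :=
    { exact := ShortComplex.exact_of_g_is_cokernel _ (cokernelIsCokernel l)
      mono_f := hl
      epi_g := inferInstanceAs (Epi (cokernel.π l)) }
  have hSk : ∀ k, (S.map (HomologicalComplex.eval A (ComplexShape.up ℤ) k)).ShortExact :=
    fun k => hS.map_of_exact _
  let π := cokernel.π l
  let il : DY ⟶ DY ⊞ M := biprod.inl
  let ir : M ⟶ DY ⊞ M := biprod.inr
  let pl : DY ⊞ M ⟶ DY := biprod.fst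
  let pr : DY ⊞ M ⟶ M := biprod.snd
  have htot : ∀ k, pl.f k ≫ il.f k + pr.f k ≫ ir.f k = 𝟙 _ := fun k => by
    rw [← HomologicalComplex.comp_f, ← HomologicalComplex.comp_f, ← HomologicalComplex.add_f_apply,
      biprod.total, HomologicalComplex.id_f]
  have hπi : ∀ k, k ≠ n → k ≠ n + 1 → IsIso (π.f k) := fun k h h' =>
    (hSk k).isIso_g_iff.2 (HomologicalComplex.isZero_double_X (𝟙 (M.X n)) (rel_succ n) k h h')
  have hir : ∀ k, k ≠ n → k ≠ n + 1 → IsIso (ir.f k) := fun k h h' =>
    ⟨pr.f k, by rw [← HomologicalComplex.comp_f, biprod.inr_snd, HomologicalComplex.id_f], by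
      have h0 : pl.f k = 0 := (HomologicalComplex.isZero_double_X _ (rel_succ n) k h h').eq_of_tgt _ _
      have := htot k
      rwa [h0, zero_comp, zero_add] at this⟩
  have hQ : QuasiIso (ir ≫ π) := by
    have hDX : ∀ k, IsZero (DX.homology k) := fun k => (exactAt_double_id _ n k).isZero_homology
    have hDY : ∀ k, IsZero (DY.homology k) := fun k => (exactAt_double_id _ n k).isZero_homology
    have hπ : QuasiIso π := by
      refine ⟨fun k => (quasiIsoAt_iff_isIso_homologyMap _ _).2 ?_⟩
      have hm : Mono (HomologicalComplex.homologyMap S.g k) :=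
        (hS.homology_exact₂ k).mono_g ((hDX k).eq_of_src _ _)
      have he : Epi (HomologicalComplex.homologyMap S.g k) :=
        (hS.homology_exact₃ k (k + 1) (rel_succ k)).epi_f ((hDX (k + 1)).eq_of_tgt _ _)
      exact @isIso_of_mono_of_epi _ _ _ _ _ (HomologicalComplex.homologyMap π k) hm he
    have hi : QuasiIso ir := by
      refine ⟨fun k => (quasiIsoAt_iff_isIso_homologyMap _ _).2
        ⟨HomologicalComplex.homologyMap pr k, ?_, ?_⟩⟩
      · rw [← HomologicalComplex.homologyMap_comp, biprod.inr_snd, HomologicalComplex.homologyMap_id]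
      · have h0 : HomologicalComplex.homologyMap pl k = 0 := (hDY k).eq_of_tgt _ _
        have := congrArg (fun f => HomologicalComplex.homologyMap f k)
          (biprod.total (X := DY) (Y := M))
        rw [HomologicalComplex.homologyMap_add, HomologicalComplex.homologyMap_id,
          HomologicalComplex.homologyMap_comp, HomologicalComplex.homologyMap_comp, h0, zero_comp,
          zero_add] at this
        exact this
    infer_instance
  refine ⟨cokernel l, ir ≫ π, hQ, fun k h h' => ?_, ?_, ?_⟩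
  · have := hπi k h h'
    have := hir k h h'
    rw [HomologicalComplex.comp_f]
    infer_instance
  · refine (hiso ⟨Iso.symm ?_⟩).trans hY
    have he0 : e.f n = eX₀.hom := by
      rw [HomologicalComplex.mkHomFromDouble_f₀, Category.comp_id]
    have hlr : l.f n ≫ pr.f n = -eX₀.hom := by
      rw [← HomologicalComplex.comp_f, biprod.lift_snd, HomologicalComplex.neg_f_apply, he0]
    have hll : l.f n ≫ pl.f n = j.f n := by
      rw [← HomologicalComplex.comp_f, biprod.lift_fst]
    have hlπ : l.f n ≫ π.f n = 0 := by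
      rw [← HomologicalComplex.comp_f, cokernel.condition, HomologicalComplex.zero_f]
    have hmono : Mono (il.f n ≫ π.f n) := by
      rw [Preadditive.mono_iff_cancel_zero]
      intro Z z hz
      rw [← Category.assoc] at hz
      have hm : Mono (S.map (HomologicalComplex.eval A (ComplexShape.up ℤ) n)).f := (hSk n).mono_f
      obtain ⟨w₀, hw₀⟩ := KernelFork.IsLimit.lift' (hSk n).fIsKernel (z ≫ il.f n) hz
      obtain ⟨w, hw⟩ : ∃ w : Z ⟶ DX.X n, w ≫ l.f n = z ≫ il.f n := ⟨w₀, hw₀⟩
      have h0 : il.f n ≫ pr.f n = 0 := by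
        rw [← HomologicalComplex.comp_f, biprod.inl_snd, HomologicalComplex.zero_f]
      have h1' : il.f n ≫ pl.f n = 𝟙 _ := by
        rw [← HomologicalComplex.comp_f, biprod.inl_fst, HomologicalComplex.id_f]
      have hw0 : w = 0 := by
        have := (Category.assoc w (l.f n) (pr.f n)).symm.trans
          ((congrArg (fun t => t ≫ pr.f n) hw).trans (Category.assoc z (il.f n) (pr.f n)))
        rw [hlr, h0, comp_zero, Preadditive.comp_neg, neg_eq_zero] at this
        exact (cancel_mono eX₀.hom).1 (this.trans zero_comp.symm)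
      have := congrArg (fun t => t ≫ pl.f n) hw
      simp only [Category.assoc, h1', Category.comp_id, hw0, zero_comp] at this
      exact this.symm
    have hepi : Epi (il.f n ≫ π.f n) := by
      rw [Preadditive.epi_iff_cancel_zero]
      intro Z z hz
      rw [Category.assoc] at hz
      have hp : Epi (π.f n) := (hSk n).epi_g
      rw [← cancel_epi (π.f n), comp_zero, ← Category.id_comp (π.f n ≫ z), ← htot n,
        Preadditive.add_comp, Category.assoc, Category.assoc, hz, comp_zero, zero_add]
      have h5 : ir.f n ≫ π.f n ≫ z = 0 := by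
        rw [← cancel_epi eX₀.hom, comp_zero, ← neg_eq_zero, ← Preadditive.neg_comp, ← hlr]
        have := congrArg (fun t => l.f n ≫ t ≫ π.f n ≫ z) (htot n)
        simp only [Preadditive.add_comp, Category.assoc, hz, comp_zero,
          zero_add, Category.id_comp, reassoc_of% hlπ, zero_comp] at this
        simpa only [Category.assoc] using this
      rw [h5, comp_zero]
    exact eY₀.symm ≪≫ @asIso _ _ _ _ (il.f n ≫ π.f n) (isIso_of_mono_of_epi _)
  · refine (h3 _ (hSk (n + 1))).trans ?_
    have := preservesBinaryBiproducts_of_preservesBiproducts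
      (HomologicalComplex.eval A (ComplexShape.up ℤ) (n + 1))
    have e1 : d ((DY ⊞ M).X (n + 1)) = d (DY.X (n + 1) ⊞ M.X (n + 1)) :=
      hiso ⟨(HomologicalComplex.eval A (ComplexShape.up ℤ) (n + 1)).mapBiprod DY M⟩
    have e2 : d (DY.X (n + 1)) = 0 := (hiso ⟨eY₁⟩).trans hY
    change max (d (DX.X (n + 1)) - 1) (d ((DY ⊞ M).X (n + 1))) ≤ _
    rw [hiso ⟨eX₁⟩, e1]
    refine max_le (le_max_left _ _) ((h2 _ _).trans ?_)
    rw [e2]
    exact max_le (zero_le) (le_max_right _ _)

include hiso h1 h2 h3 in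
/-- Finitely many operations. -/
theorem exists_sweep (m : ℤ) : ∀ (c : ℕ) (M : CochainComplex A ℤ) (N : ℤ), m ≤ N + c →
    (∀ t, N ≤ t → d (M.X t) ≤ ((m - t).toNat : ℕ∞)) →
    ∃ (M' : CochainComplex A ℤ) (g : M ⟶ M'), QuasiIso g ∧
      (∀ t, t < N ∨ m < t → IsIso (g.f t)) ∧ ∀ t, N ≤ t → d (M'.X t) = 0 := by
  intro c
  induction c with
  | zero =>
    intro M N hN h
    refine ⟨M, 𝟙 M, inferInstance, fun t _ => inferInstanceAs (IsIso (𝟙 _)), fun t ht => ?_⟩
    have := h t ht
    rwa [show (m - t).toNat = 0 by omega, Nat.cast_zero, nonpos_iff_eq_zero] at this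
  | succ c ih =>
    intro M N hN h
    by_cases hm : m ≤ N
    · exact ih M N (by omega) h
    obtain ⟨M₁, g₁, hq, hi, hn, hn1⟩ := exists_step d hiso h1 h2 h3 M N
    obtain ⟨M', g, hq', hi', hz⟩ := ih M₁ (N + 1) (by push_cast at hN; omega) (fun t ht => by
      by_cases ht' : t = N + 1
      · subst ht'
        refine hn1.trans (max_le ?_ (h _ (by omega)))
        rw [tsub_le_iff_right]
        refine (h N le_rfl).trans ?_
        rw [show (m - N).toNat = (m - (N + 1)).toNat + 1 by omega, Nat.cast_add, Nat.cast_one]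
      · have := hi t (by omega) ht'
        rw [← hiso ⟨asIso (g₁.f t)⟩]
        exact h t (by omega))
    refine ⟨M', g₁ ≫ g, inferInstance, fun t ht => ?_, fun t ht => ?_⟩
    · have := hi t (by omega) (by omega)
      have := hi' t (by omega)
      rw [HomologicalComplex.comp_f]
      infer_instance
    · by_cases ht' : t = N
      · subst ht'
        have := hi' t (Or.inl (by omega))
        rw [← hiso ⟨asIso (g.f t)⟩]
        exact hn
      · exact hz t (by omega)

/-- A state of a process of operations. -/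
structure State (K : CochainComplex A ℤ) (N : ℤ) where
  /-- The current complex. -/
  M : CochainComplex A ℤ
  /-- The map from the initial complex. -/
  g : K ⟶ M
  qi : QuasiIso g
  iso : ∀ t, t < N → IsIso (g.f t)

include hiso h1 h2 h3 in
/-- All dimensions above a given degree can be killed. -/
theorem exists_upper (K : CochainComplex A ℤ) (N : ℤ) :
    ∃ S : State K N, ∀ t, N ≤ t → d (S.M.X t) = 0 := by
  choose st gst hq hi hz hb using fun (M : CochainComplex A ℤ) (n : ℤ) =>
    exists_step d hiso h1 h2 h3 M n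
  let M : ℕ → CochainComplex A ℤ := fun k =>
    Nat.rec (motive := fun _ => CochainComplex A ℤ) K (fun k M => st M (N + k)) k
  let g : ∀ k, M k ⟶ M (k + 1) := fun k => gst (M k) (N + k)
  have hgi : ∀ (k : ℕ) (t : ℤ), t < N + k → IsIso ((g k).f t) :=
    fun k t ht => hi (M k) (N + k) t (by omega) (by omega)
  have hzero : ∀ (k : ℕ) (t : ℤ), N ≤ t → t < N + k → d ((M k).X t) = 0 := by
    intro k
    induction k with
    | zero => intro t h h'; omega
    | succ k ih =>
      intro t h h'
      by_cases ht : t = N + k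
      · subst ht; exact hz (M k) (N + k)
      · have := hgi k t (by omega)
        rw [← hiso ⟨asIso ((g k).f t)⟩]
        exact ih t h (by omega)
  obtain ⟨L, f, hf, hf0, he⟩ := exists_stable_limit M g (fun k => hq (M k) (N + k))
    (fun k t => t < N + k) (fun k t h => by push_cast; omega) hgi
    (fun t => ⟨(t - N).toNat + 1, by omega⟩)
  refine ⟨⟨L, f, hf, fun t ht => ?_⟩, fun t ht => ?_⟩
  · exact hf0 t (by simpa using ht)
  · obtain ⟨i⟩ := he ((t - N).toNat + 1) t (by omega)
    rw [← hiso ⟨i⟩]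
    exact hzero ((t - N).toNat + 1) t ht (by omega)

include hiso h1 h2 h3 in
theorem exists_dim_zero (K : CochainComplex A ℤ)
    (hK : ∀ m : ℤ, ∃ N : ℤ, ∀ n : ℤ, n ≤ N → d (K.X n) ≤ ((m - n).toNat : ℕ∞)) :
    ∃ (L : CochainComplex A ℤ) (f : K ⟶ L), QuasiIso f ∧ ∀ n, d (L.X n) = 0 := by
  choose B hB using hK
  let N : ℕ → ℤ := fun r =>
    Nat.rec (motive := fun _ => ℤ) (min 0 (B (-1))) (fun r N => min N (min (B (-(r : ℤ) - 2)) (-(r : ℤ) - 1))) r
  have hNle : ∀ r, N (r + 1) ≤ N r := fun r => min_le_left _ _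
  have hNB : ∀ r : ℕ, N r ≤ B (-(r : ℤ) - 1) := by
    intro r
    cases r with
    | zero => exact min_le_right _ _
    | succ r =>
      exact ((min_le_right _ _).trans (min_le_left _ _)).trans (le_of_eq (by congr 1; push_cast; omega))
  obtain ⟨S₀, hS₀⟩ := exists_upper d hiso h1 h2 h3 K (N 0)
  have hstep : ∀ (r : ℕ) (S : State K (N r)), (∀ t, N r ≤ t → d (S.M.X t) = 0) →
      ∃ (S' : State K (N (r + 1))) (g : S.M ⟶ S'.M), QuasiIso g ∧
        (∀ t, -(r : ℤ) ≤ t → IsIso (g.f t)) ∧ ∀ t, N (r + 1) ≤ t → d (S'.M.X t) = 0 := by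
    intro r S hS
    let m : ℤ := -(r : ℤ) - 1
    obtain ⟨M', g, hg, hgi, hgz⟩ := exists_sweep d hiso h1 h2 h3 m (m - N (r + 1)).toNat S.M
      (N (r + 1)) (by omega) (fun t ht => by
        by_cases h : N r ≤ t
        · rw [hS t h]; exact zero_le
        · have := S.iso t (by omega)
          rw [← hiso ⟨asIso (S.g.f t)⟩]
          exact hB m t ((le_of_not_ge h).trans (hNB r)))
    have := S.qi
    refine ⟨⟨M', S.g ≫ g, inferInstance, fun t ht => ?_⟩, g, hg,
      fun t ht => hgi t (Or.inr (by omega)), hgz⟩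
    have := S.iso t (lt_of_lt_of_le ht (hNle r))
    have := hgi t (Or.inl ht)
    rw [HomologicalComplex.comp_f]
    infer_instance
  choose next gnext hq hi hz using hstep
  let S : ∀ r : ℕ, { S : State K (N r) // ∀ t, N r ≤ t → d (S.M.X t) = 0 } := fun r =>
    Nat.rec (motive := fun r => { S : State K (N r) // ∀ t, N r ≤ t → d (S.M.X t) = 0 })
      ⟨S₀, hS₀⟩ (fun r S => ⟨next r S.1 S.2, hz r S.1 S.2⟩) r
  obtain ⟨L, f, hf, -, he⟩ := exists_stable_limit (fun r => (S r).1.M)
    (fun r => gnext r (S r).1 (S r).2) (fun r => hq r _ _) (fun r t => -(r : ℤ) ≤ t)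
    (fun r t h => by push_cast; omega) (fun r t h => hi r _ _ t h)
    (fun t => ⟨(-t).toNat, by omega⟩)
  have := (S 0).1.qi
  refine ⟨L, (S 0).1.g ≫ f, inferInstance, fun t => ?_⟩
  have hNr : ∀ r : ℕ, N r ≤ -(r : ℤ) := by
    intro r
    cases r with
    | zero => exact min_le_left _ _
    | succ r => exact ((min_le_right _ _).trans (min_le_right _ _)).trans (le_of_eq (by push_cast; omega))
  obtain ⟨i⟩ := he (-t).toNat t (by omega)
  rw [← hiso ⟨i⟩]
  exact (S (-t).toNat).2 t ((hNr _).trans (by omega))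

end Groth.DimZero
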